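import Cfsg.Agent.H756.PU.Stmts

/-!
# S5258, (E1): an essential subgroup of `UG K` contains `Z₂`

Plan: `outputs/live/tools/plans/S5258.md`, Part 3, E1.
-/

set_option autoImplicit false
set_option linter.unusedVariables false

namespace Cfsg.Agent.H839.PU

open Cfsg Cfsg.FusionSystem Cfsg.Agent.H756.PU

universe u

section gen

variable {Ω : Type*} [Group Ω] {E : Subgroup Ω} {Γ : Subgroup (MulAut E)}

/-- `hull` as a subgroup of `E` -/
def hullIn (Γ : Subgroup (MulAut E)) (X : Subgroup Ω) : Subgroup E :=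
  Subgroup.closure {y : E | ∃ γ ∈ Γ, ∃ e : E, (e : Ω) ∈ X ∧ y = γ e}

theorem hull_eq_map (Γ : Subgroup (MulAut E)) (X : Subgroup Ω) :
    hull Γ X = (hullIn Γ X).map E.subtype := by
  rw [hullIn, MonoidHom.map_closure, hull]
  congr 1
  ext y
  constructor
  · rintro ⟨γ, hγ, e, he, rfl⟩
    exact ⟨γ e, ⟨γ, hγ, e, he, rfl⟩, rfl⟩
  · rintro ⟨_, ⟨γ, hγ, e, he, rfl⟩, rfl⟩
    exact ⟨γ, hγ, e, he, rfl⟩

/-- the hull is invariant -/
theorem inv_hull (Γ : Subgroup (MulAut E)) (X : Subgroup Ω) : Inv Γ (hull Γ X) := by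
  rw [hull_eq_map]
  refine ⟨by rintro _ ⟨x, -, rfl⟩; exact x.2, fun γ hγ e he => ?_⟩
  obtain ⟨x, hx, hxe⟩ := he
  have hxe' : x = e := Subtype.ext hxe
  subst hxe'
  refine ⟨γ x, ?_, rfl⟩
  have h : (hullIn Γ X).map γ.toMonoidHom ≤ hullIn Γ X := by
    rw [hullIn, MonoidHom.map_closure, Subgroup.closure_le]
    rintro _ ⟨_, ⟨δ, hδ, e, he, rfl⟩, rfl⟩
    exact Subgroup.subset_closure ⟨γ * δ, Γ.mul_mem hγ hδ, e, he, rfl⟩
  exact h ⟨x, hx, rfl⟩

theorem le_hull {X : Subgroup Ω} (hX : X ≤ E) : X ≤ hull Γ X := fun x hx =>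
  Subgroup.subset_closure ⟨1, Γ.one_mem, ⟨x, hX hx⟩, hx, rfl⟩

/-- the hull of a central subgroup of exponent `p` is central of exponent `p` -/
theorem hull_central {X : Subgroup Ω} (hX : ∀ x ∈ X, ∀ e ∈ E, x * e = e * x) {p : ℕ}
    (hp : ∀ x ∈ X, x ^ p = 1) :
    ∀ m ∈ hull Γ X, m ∈ E ∧ (∀ e ∈ E, m * e = e * m) ∧ m ^ p = 1 := by
  intro m hm
  induction hm using Subgroup.closure_induction with
  | mem y hy =>
    obtain ⟨γ, hγ, e, he, rfl⟩ := hy
    refine ⟨(γ e).2, fun f hf => ?_, ?_⟩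
    · have h1 : (⟨f, hf⟩ : E) = γ (γ⁻¹ ⟨f, hf⟩) := by rw [MulAut.apply_inv_self]
      have h2 : e * γ⁻¹ ⟨f, hf⟩ = γ⁻¹ ⟨f, hf⟩ * e := Subtype.ext (hX e he _ (γ⁻¹ ⟨f, hf⟩).2)
      have h3 : γ e * (⟨f, hf⟩ : E) = ⟨f, hf⟩ * γ e := by
        rw [h1, ← map_mul, h2, map_mul]
      exact congrArg Subtype.val h3
    · have h1 : e ^ p = 1 := Subtype.ext (hp e he)
      have h2 : (γ e) ^ p = 1 := by rw [← map_pow, h1, map_one]
      exact congrArg Subtype.val h2
  | one => exact ⟨E.one_mem, fun e _ => by rw [one_mul, mul_one], one_pow p⟩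
  | mul x y _ _ hx hy =>
    refine ⟨E.mul_mem hx.1 hy.1, fun e he => ?_, ?_⟩
    · rw [mul_assoc, hy.2.1 e he, ← mul_assoc, hx.2.1 e he, mul_assoc]
    · have hc : Commute x y := hx.2.1 y hy.1
      rw [hc.mul_pow, hx.2.2, hy.2.2, one_mul]
  | inv x _ hx =>
    refine ⟨E.inv_mem hx.1, fun e he => ?_, ?_⟩
    · have hc : Commute x e := hx.2.1 e he
      exact hc.inv_left
    · rw [inv_pow, hx.2.2, inv_one]

/-- the commutator subgroup is invariant -/
theorem inv_commutator (Γ : Subgroup (MulAut E)) : Inv Γ ⁅E, E⁆ := by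
  rw [← Subgroup.map_subtype_commutator]
  refine ⟨by rintro _ ⟨x, -, rfl⟩; exact x.2, fun γ hγ e he => ?_⟩
  obtain ⟨x, hx, hxe⟩ := he
  have hxe' : x = e := Subtype.ext hxe
  subst hxe'
  refine ⟨γ x, ?_, rfl⟩
  have h : (commutator E).map γ.toMonoidHom ≤ commutator E := by
    rw [commutator_def, Subgroup.map_commutator]
    exact Subgroup.commutator_mono le_top le_top
  exact h ⟨x, hx, rfl⟩

theorem inv_bot' (Γ : Subgroup (MulAut E)) : Inv Γ (⊥ : Subgroup Ω) :=
  ⟨bot_le, fun γ _ e he => by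
    have h1 : e = 1 := Subtype.ext (Subgroup.mem_bot.1 he)
    rw [h1, map_one]
    exact (⊥ : Subgroup Ω).one_mem⟩

theorem inv_inf {M N : Subgroup Ω} (hM : Inv Γ M) (hN : Inv Γ N) : Inv Γ (M ⊓ N) :=
  ⟨inf_le_left.trans hM.1, fun γ hγ e he => ⟨hM.2 γ hγ e he.1, hN.2 γ hγ e he.2⟩⟩

end gen

/-! ### The field -/

section field

variable {K : Type u} [Field K] [StarRing K] {p n : ℕ}

theorem two_le_q (h : HypK K p n) : 2 ≤ p ^ n :=
  h.pp.two_le.trans (Nat.le_self_pow (by have := h.hn; omega) p)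

omit [StarRing K] in
theorem card_roots_le {P : Polynomial K} (hP : P ≠ 0) {m : ℕ} (hd : P.natDegree ≤ m) (s : Set K)
    (hs : ∀ x ∈ s, P.eval x = 0) : Nat.card s ≤ m := by
  classical
  have h1 : s ⊆ (P.roots.toFinset : Set K) := fun x hx => by
    rw [Finset.mem_coe, Multiset.mem_toFinset, Polynomial.mem_roots hP]
    exact hs x hx
  have h2 : Nat.card s ≤ P.roots.toFinset.card := by
    rw [Nat.card_coe_set_eq, ← Set.ncard_coe_finset]
    exact Set.ncard_le_ncard h1 (Finset.finite_toSet _)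
  exact h2.trans ((Multiset.toFinset_card_le _).trans ((Polynomial.card_roots' P).trans hd))

/-- the fixed field has at most `q` elements -/
theorem card_fix_le (h : HypK K p n) : Nat.card {x : K | star x = x} ≤ p ^ n := by
  have hq := two_le_q h
  refine card_roots_le (P := Polynomial.X ^ (p ^ n) - Polynomial.X) ?_ ?_ _ ?_
  · exact FiniteField.X_pow_card_sub_X_ne_zero K (by omega)
  · rw [FiniteField.X_pow_card_sub_X_natDegree_eq K (by omega)]
  · intro x hx
    have hx' : star x = x := hx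
    rw [h.star_eq] at hx'
    simp [hx']

/-- the skew elements -/
theorem card_skew_le (h : HypK K p n) : Nat.card {x : K | x + star x = 0} ≤ p ^ n := by
  have := h.fin
  by_cases hε : ∃ ε : K, ε ≠ 0 ∧ ε + star ε = 0
  · obtain ⟨ε, hε0, hε⟩ := hε
    refine le_trans ?_ (card_fix_le h)
    have hs : star ε = -ε := by linear_combination hε
    refine Nat.card_le_card_of_injective
      (fun x : {x : K | x + star x = 0} => (⟨x.1 * ε⁻¹, ?_⟩ : {x : K | star x = x})) ?_
    · have hx : (x : K) + star (x : K) = 0 := x.2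
      have hx' : star (x : K) = -x := by linear_combination hx
      show star ((x : K) * ε⁻¹) = (x : K) * ε⁻¹
      rw [star_mul', star_inv₀, hs, hx']
      field_simp
    · intro x y hxy
      have h1 : (x : K) * ε⁻¹ = y * ε⁻¹ := congrArg Subtype.val hxy
      exact Subtype.ext (mul_right_cancel₀ (inv_ne_zero hε0) h1)
  · push Not at hε
    have h1 : Nat.card {x : K | x + star x = 0} ≤ 1 := by
      have : Subsingleton {x : K | x + star x = 0} := ⟨fun x y => by
        have hx : (x : K) = 0 := by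
          by_contra h0
          exact hε x h0 x.2
        have hy : (y : K) = 0 := by
          by_contra h0
          exact hε y h0 y.2
        exact Subtype.ext (hx.trans hy.symm)⟩
      exact Finite.card_le_one_iff_subsingleton.2 this
    exact h1.trans (by have := two_le_q h; omega)

/-- the line `F_q r` -/
theorem card_line_le (h : HypK K p n) {r : K} (hr : r ≠ 0) :
    Nat.card {x : K | star x * r = x * star r} ≤ p ^ n := by
  have := h.fin
  refine le_trans ?_ (card_fix_le h)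
  have hsr : star r ≠ 0 := star_ne_zero.2 hr
  refine Nat.card_le_card_of_injective
    (fun x : {x : K | star x * r = x * star r} => (⟨x.1 * r⁻¹, ?_⟩ : {x : K | star x = x})) ?_
  · have hx : star (x : K) * r = x * star r := x.2
    show star ((x : K) * r⁻¹) = (x : K) * r⁻¹
    rw [star_mul', star_inv₀]
    field_simp
    linear_combination hx
  · intro x y hxy
    have h1 : (x : K) * r⁻¹ = y * r⁻¹ := congrArg Subtype.val hxy
    exact Subtype.ext (mul_right_cancel₀ (inv_ne_zero hr) h1)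

theorem exists_star_ne (h : HypK K p n) : ∃ θ : K, star θ ≠ θ := by
  have := h.fin
  by_contra hcon
  push Not at hcon
  have h1 := card_fix_le h
  have h2 : {x : K | star x = x} = Set.univ := Set.eq_univ_of_forall hcon
  rw [h2, Nat.card_congr (Equiv.Set.univ K), h.card] at h1
  have h3 := two_le_q h
  nlinarith

end field

/-! ### Coordinates -/

section coord

variable {K : Type u} [Field K] [StarRing K]

theorem mem_ZS {g : UG K} : g ∈ ZS K ↔ g.r = 0 ∧ g.u1 = 0 ∧ g.u2 = 0 ∧ g.b = 0 ∧ g.c = 0 := Iff.rfl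
theorem mem_Z2 {g : UG K} : g ∈ Z2 K ↔ g.r = 0 ∧ g.u1 = 0 ∧ g.u2 = 0 ∧ g.c = 0 := Iff.rfl
theorem mem_YY {g : UG K} : g ∈ YY K ↔ g.r = 0 ∧ g.u2 = 0 := Iff.rfl
theorem mem_Q2 {g : UG K} : g ∈ Q2 K ↔ g.r = 0 := Iff.rfl

theorem ZS_le_Z2 : ZS K ≤ Z2 K := fun g hg => ⟨hg.1, hg.2.1, hg.2.2.1, hg.2.2.2.2⟩

theorem ZS_central {z : UG K} (hz : z ∈ ZS K) (g : UG K) : z * g = g * z := by
  obtain ⟨h1, h2, h3, h4, h5⟩ := hz
  ext <;> simp [UG.mul_a, UG.mul_b, UG.d, h1, h2, h3, h4, h5, add_comm]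

/-- `[Z₂, S] ≤ Z` -/
theorem com_Z2 {y : UG K} (hy : y ∈ Z2 K) (g : UG K) : y * g * y⁻¹ * g⁻¹ ∈ ZS K := by
  obtain ⟨h1, h2, h3, h5⟩ := hy
  have hc := g.hc
  refine ⟨?_, ?_, ?_, ?_, ?_⟩
  · simp [h1]
  · simp [h1, h2, h3]
  · simp [h3]
  · simp only [UG.mul_b, UG.inv_b, UG.inv_c, UG.d, UG.mul_u1, UG.mul_r, UG.inv_u1, UG.inv_r, UG.inv_u2, h1, h2, h3,
      h5, star_neg, star_sub, star_mul', star_star, star_zero]
    ring
  · simp only [UG.mul_c, UG.inv_c, UG.mul_u2, UG.inv_u2, h3, h5, star_zero, star_neg]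
    linear_combination hc

theorem comm_Z2_iff {y : UG K} (hy : y ∈ Z2 K) (g : UG K) :
    y * g = g * y ↔ star g.r * y.b = g.r * star y.b := by
  obtain ⟨h1, h2, h3, h5⟩ := hy
  constructor
  · intro h
    have h6 := congrArg UG.a h
    simp only [UG.mul_a, UG.d, h1, h2, h3, h5, star_zero] at h6
    linear_combination -h6
  · intro h
    ext
    · simp [h1, add_comm]
    · simp [h1, h2, h3]
    · simp [h3]
    · simp only [UG.mul_a, UG.d, h1, h2, h3, h5, star_zero]
      linear_combination -h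
    · simp only [UG.mul_b, h1, h2, h3, h5, star_zero]
      ring
    · simp [h3, h5]

/-- `Y' ≤ Z` -/
theorem com_YY {x y : UG K} (hx : x ∈ YY K) (hy : y ∈ YY K) : x * y * x⁻¹ * y⁻¹ ∈ ZS K := by
  obtain ⟨h1, h2⟩ := hx
  obtain ⟨k1, k2⟩ := hy
  have hc := x.hc
  have kc := y.hc
  rw [h2, zero_mul, add_zero] at hc
  rw [k2, zero_mul, add_zero] at kc
  refine ⟨?_, ?_, ?_, ?_, ?_⟩
  · simp [h1, k1]
  · simp [h1, k1, h2, k2]
  · simp [h2, k2]
  · simp only [UG.mul_b, UG.inv_b, UG.inv_c, UG.d, UG.mul_u1, UG.mul_r, UG.inv_r, UG.inv_u1, UG.inv_u2, h1, h2, k1,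
      k2, star_neg, star_sub, star_mul', star_star, star_zero]
    ring
  · simp only [UG.mul_c, UG.inv_c, UG.mul_u2, UG.inv_u2, h2, k2, star_zero, star_neg]
    linear_combination hc + kc

/-- `[S, Y] ≤ Z₂`, with the `b`-coordinate -/
theorem com_S_YY (g : UG K) {y : UG K} (hy : y ∈ YY K) :
    g * y * g⁻¹ * y⁻¹ ∈ Z2 K ∧ (g * y * g⁻¹ * y⁻¹).b = g.r * y.c + y.u1 * star g.u2 := by
  obtain ⟨k1, k2⟩ := hy
  have hc := g.hc
  have kc := y.hc
  rw [k2, zero_mul, add_zero] at kc
  refine ⟨⟨?_, ?_, ?_, ?_⟩, ?_⟩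
  · simp [k1]
  · simp [k1, k2]
    try ring
  · simp [k2]
  · simp only [UG.mul_c, UG.inv_c, UG.mul_u2, UG.inv_u2, k2, star_zero, star_neg]
    linear_combination hc + kc
  · simp only [UG.mul_b, UG.inv_b, UG.inv_c, UG.d, UG.mul_u1, UG.mul_r, UG.inv_u1, UG.inv_r, UG.inv_u2,
      k1, k2, star_neg, star_sub, star_mul', star_star, star_zero]
    ring

/-- the coordinate `r` as a homomorphism -/
def rh : UG K →* Multiplicative K where
  toFun g := Multiplicative.ofAdd g.r
  map_one' := rfl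
  map_mul' _ _ := rfl

/-- the coordinate `b` on `Z₂` as a homomorphism -/
def bh : Z2 K →* Multiplicative K where
  toFun g := Multiplicative.ofAdd (g : UG K).b
  map_one' := rfl
  map_mul' x y := by
    have h1 : ((x * y : Z2 K) : UG K).b = (x : UG K).b + (y : UG K).b := by
      show ((x : UG K) * (y : UG K)).b = _
      rw [UG.mul_b, x.2.1, x.2.2.1, zero_mul, zero_mul, add_zero, sub_zero]
    show Multiplicative.ofAdd _ = _
    rw [h1, ofAdd_add]

theorem bh_surjective : Function.Surjective (bh (K := K)) := by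
  intro b
  refine ⟨⟨{ r := 0, u1 := 0, u2 := 0, a := 0, b := b.toAdd, c := 0, ha := by simp, hc := by simp }, ?_⟩, rfl⟩
  exact ⟨rfl, rfl, rfl, rfl⟩

/-- the line `F_q r`, as a subgroup -/
def line (r : K) : Subgroup (Multiplicative K) where
  carrier := {x | star (x.toAdd) * r = x.toAdd * star r}
  one_mem' := by simp
  mul_mem' := by
    intro x y hx hy
    have hx' : star (x.toAdd) * r = x.toAdd * star r := hx
    have hy' : star (y.toAdd) * r = y.toAdd * star r := hy
    show star ((x * y).toAdd) * r = (x * y).toAdd * star r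
    rw [toAdd_mul, star_add]
    linear_combination hx' + hy'
  inv_mem' := by
    intro x hx
    have hx' : star (x.toAdd) * r = x.toAdd * star r := hx
    show star ((x⁻¹).toAdd) * r = (x⁻¹).toAdd * star r
    rw [toAdd_inv, star_neg]
    linear_combination -hx'

instance Z2_normal : (Z2 K).Normal := ⟨fun y hy g => by
  have h1 := com_Z2 hy g
  have h2 : g * y * g⁻¹ = (y * g * y⁻¹ * g⁻¹)⁻¹ * y := by group
  rw [h2]
  exact (Z2 K).mul_mem ((Z2 K).inv_mem (ZS_le_Z2 h1)) hy⟩

end coord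

/-! ### The theorem -/

section main

variable {K : Type u} [Field K] [StarRing K] {p n : ℕ}

theorem finite_UG (h : HypK K p n) : Finite (UG K) := by
  have := h.fin
  refine Finite.of_injective (fun g : UG K => (g.r, g.u1, g.u2, g.a, g.b, g.c)) ?_
  intro x y hxy
  simp only [Prod.mk.injEq] at hxy
  obtain ⟨h1, h2, h3, h4, h5, h6⟩ := hxy
  exact UG.ext h1 h2 h3 h4 h5 h6

theorem card_ZS_le (h : HypK K p n) : Nat.card (ZS K) ≤ p ^ n := by
  have := h.fin
  refine le_trans ?_ (card_skew_le h)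
  refine Nat.card_le_card_of_injective
    (fun g : ZS K => (⟨(g : UG K).a, ?_⟩ : {x : K | x + star x = 0})) ?_
  · have h1 := (g : UG K).ha
    rw [g.2.2.1, zero_mul, add_zero] at h1
    exact h1
  · intro x y hxy
    have h1 : (x : UG K).a = (y : UG K).a := congrArg Subtype.val hxy
    refine Subtype.ext (UG.ext ?_ ?_ ?_ h1 ?_ ?_)
    · rw [x.2.1, y.2.1]
    · rw [x.2.2.1, y.2.2.1]
    · rw [x.2.2.2.1, y.2.2.2.1]
    · rw [x.2.2.2.2.1, y.2.2.2.2.1]
    · rw [x.2.2.2.2.2, y.2.2.2.2.2]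

theorem pow_ZS (h : HypK K p n) {z : UG K} (hz : z ∈ ZS K) : z ^ p = 1 := by
  have := h.char
  have key : ∀ m : ℕ, z ^ m ∈ ZS K ∧ (z ^ m).a = (m : K) * z.a := by
    intro m
    refine ⟨(ZS K).pow_mem hz m, ?_⟩
    induction m with
    | zero => simp
    | succ m ih =>
      have h1 := (ZS K).pow_mem hz m
      rw [pow_succ, UG.mul_a, ih, h1.1, h1.2.1]
      push_cast
      simp
      ring
  obtain ⟨h1, h2⟩ := key p
  rw [CharP.cast_eq_zero, zero_mul] at h2
  exact UG.ext h1.1 h1.2.1 h1.2.2.1 h2 h1.2.2.2.1 h1.2.2.2.2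

theorem pow_Z2 (h : HypK K p n) {z : UG K} (hz : z ∈ Z2 K) : z ^ p = 1 := by
  have := h.char
  have key : ∀ m : ℕ, z ^ m ∈ Z2 K ∧ (z ^ m).a = (m : K) * z.a ∧ (z ^ m).b = (m : K) * z.b := by
    intro m
    refine ⟨(Z2 K).pow_mem hz m, ?_⟩
    induction m with
    | zero => simp
    | succ m ih =>
      have h1 := (Z2 K).pow_mem hz m
      refine ⟨?_, ?_⟩
      · rw [pow_succ, UG.mul_a, ih.1, h1.1, h1.2.1]
        push_cast
        simp
        ring
      · rw [pow_succ, UG.mul_b, ih.2, h1.1, h1.2.1]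
        push_cast
        simp
        ring
  obtain ⟨h1, h2, h3⟩ := key p
  rw [CharP.cast_eq_zero, zero_mul] at h2 h3
  exact UG.ext h1.1 h1.2.1 h1.2.2.1 h2 h3 h1.2.2.2

/-- **(E1)** -/
theorem stE1 (hCh : StChain.{u}) (hFF : StFF.{u}) : StE1.{u} := by
  intro K _ _ p n h E Γ hE
  by_contra hZ2
  have hfin := finite_UG h
  have hKfin := h.fin
  have hq := two_le_q h
  have hqpos : 0 < p ^ n := by omega
  -- the centre
  have hZE : ZS K ≤ E := fun z hz => hE.cent z (Subgroup.mem_top z) fun e _ => ZS_central hz e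
  set M := hull Γ (ZS K) with hM
  have hMc : ∀ m ∈ M, m ∈ E ∧ (∀ e ∈ E, m * e = e * m) ∧ m ^ p = 1 :=
    hull_central (fun x hx e _ => ZS_central hx e) (fun x hx => pow_ZS h hx)
  have hMinv : Inv Γ M := inv_hull Γ (ZS K)
  have hZM : ZS K ≤ M := le_hull hZE
  have hcomE : ∀ X : Subgroup (UG K), X ≤ Z2 K → Com X E M := fun X hX a ha m _ => hZM (com_Z2 (hX ha) m)
  -- `C_{Z₂}(M) ≤ E`
  let X : Subgroup (UG K) := Z2 K ⊓ Subgroup.centralizer (M : Set (UG K))
  have hXM : ∀ x ∈ X, ∀ m ∈ M, x * m = m * x := fun x hx m hm =>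
    ((Subgroup.mem_centralizer_iff.1 hx.2) m hm).symm
  have hXcom : Com X M M := fun x hx m hm => by
    rw [hXM x hx m hm, mul_assoc, mul_assoc, mul_inv_cancel_left, mul_inv_cancel]
    exact M.one_mem
  have hXE : X ≤ E := hCh hE M M M hMinv hMinv hMinv le_rfl le_rfl X le_top (hcomE X inf_le_left) hXcom hXcom hXM
  -- an element of `M` outside `Q₂`
  obtain ⟨z, hzM, hzr⟩ : ∃ z ∈ M, z.r ≠ 0 := by
    by_contra hcon
    push Not at hcon
    apply hZ2
    have h1 : Z2 K ≤ X := fun y hy => ⟨hy, Subgroup.mem_centralizer_iff.2 fun m hm => by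
      rw [(comm_Z2_iff hy m).2 (by rw [hcon m hm, star_zero, zero_mul, zero_mul])]⟩
    exact h1.trans hXE
  have hszr : star z.r ≠ 0 := star_ne_zero.2 hzr
  have hz := hMc z hzM
  -- `FF`
  have hA : Z2 K ≤ normalizerIn (⊤ : Subgroup (UG K)) E := by
    intro y hy
    refine ⟨Subgroup.mem_top y, ?_⟩
    refine Subgroup.mem_normalizer_fintype (fun e he => ?_)
    have h1 : y * e * y⁻¹ = (y * e * y⁻¹ * e⁻¹) * e := by group
    rw [h1]
    exact E.mul_mem (hZE (com_Z2 hy e)) he
  have hFF' := fun hle => hFF hE ⊥ M (ZS K) (Z2 K) (inv_bot' Γ) hMinv bot_le hZM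
    (fun e he m hm => by
      rw [← (hMc m hm).2.1 e he, mul_assoc, mul_assoc, mul_inv_cancel_left, mul_inv_cancel]
      exact (⊥ : Subgroup (UG K)).one_mem)
    (fun m hm => Subgroup.mem_bot.2 (hMc m hm).2.2) (by rw [sup_bot_eq])
    (fun g _ m hm => by
      rw [← ZS_central hm g, mul_assoc, mul_assoc, mul_inv_cancel_left, mul_inv_cancel]
      exact (⊥ : Subgroup (UG K)).one_mem)
    hA hZ2 (fun x hx y _ => hZE (com_Z2 hx y)) (fun x hx => by rw [pow_Z2 h hx]; exact E.one_mem)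
    (hcomE _ le_rfl) (fun x _ m hm => by
      rw [Subgroup.mem_bot.1 hm, mul_one, one_mul]) hle
  -- `|R| ≤ |Z₂ : Z₂ ∩ E|`
  have hR : (cmod (Z2 K) M ⊥).relIndex M ≤ Nat.card ((rh (K := K)).comp M.subtype).range := by
    have h1 : M ⊓ Q2 K ≤ cmod (Z2 K) M ⊥ := fun m hm => Subgroup.subset_closure ⟨hm.1, fun a ha => by
      have h2 : m.r = 0 := hm.2
      rw [(comm_Z2_iff ha m).2 (by rw [h2, star_zero, zero_mul, zero_mul]), mul_assoc, mul_assoc,
        mul_inv_cancel_left, mul_inv_cancel]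
      exact (⊥ : Subgroup (UG K)).one_mem⟩
    have h2 : ((rh (K := K)).comp M.subtype).ker = (M ⊓ Q2 K).subgroupOf M := by
      ext m
      rw [MonoidHom.mem_ker, Subgroup.mem_subgroupOf]
      constructor
      · intro h3
        exact ⟨m.2, Multiplicative.ofAdd.injective h3⟩
      · intro h3
        exact congrArg Multiplicative.ofAdd h3.2
    rw [← Subgroup.index_ker, h2]
    exact Nat.le_of_dvd (Nat.pos_of_ne_zero Subgroup.index_ne_zero_of_finite)
      (Subgroup.relIndex_dvd_of_le_left M h1)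
  have hB : ∀ B : Subgroup (Multiplicative K), (∀ y ∈ Z2 K, y ∈ E → Multiplicative.ofAdd y.b ∈ B) →
      B.index ≤ E.relIndex (Z2 K) := by
    intro B hB
    rw [← Subgroup.index_comap_of_surjective B (bh_surjective (K := K))]
    refine Nat.le_of_dvd (Nat.pos_of_ne_zero Subgroup.index_ne_zero_of_finite)
      (Subgroup.index_dvd_of_le fun y hy => ?_)
    exact hB y y.2 (Subgroup.mem_subgroupOf.1 hy)
  have hCZ : comG (Z2 K) M ⊔ ⊥ ≤ ZS K := by
    rw [sup_bot_eq]
    refine (Subgroup.closure_le _).2 ?_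
    rintro _ ⟨a, ha, m, hm, rfl⟩
    exact com_Z2 ha m
  have hCcard : Nat.card (comG (Z2 K) M ⊔ ⊥ : Subgroup (UG K)) ≤ Nat.card (ZS K) :=
    Subgroup.card_le_of_le hCZ
  have hindex : ∀ B : Subgroup (Multiplicative K), B.index * Nat.card B = (p ^ n) ^ 2 := by
    intro B
    rw [mul_comm, B.card_mul_index, ← h.card]
    rfl
  -- case distinction
  by_cases hcase : ∀ m ∈ M, star m.r * z.r = m.r * star z.r
  swap
  · push Not at hcase
    obtain ⟨m, hmM, hm⟩ := hcase
    exfalso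
    have h1 : (⊥ : Subgroup (Multiplicative K)).index ≤ E.relIndex (Z2 K) := by
      refine hB ⊥ fun y hy hyE => ?_
      have k1 := (comm_Z2_iff hy z).1 (hz.2.1 y hyE).symm
      have k2 := (comm_Z2_iff hy m).1 ((hMc m hmM).2.1 y hyE).symm
      rw [Subgroup.mem_bot]
      have hb : y.b = 0 := by
        by_contra hb0
        apply hm
        have hsb : star y.b ≠ 0 := star_ne_zero.2 hb0
        apply mul_right_cancel₀ (mul_ne_zero hb0 hsb)
        linear_combination (z.r * star y.b) * k2 - (m.r * star y.b) * k1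
      rw [hb]
      rfl
    have h2 := hindex ⊥
    rw [Subgroup.card_bot, mul_one] at h2
    rw [h2] at h1
    have h3 : Nat.card ((rh (K := K)).comp M.subtype).range ≤ (p ^ n) ^ 2 := by
      rw [← h.card]
      exact Nat.card_le_card_of_injective (fun x => Multiplicative.toAdd x.1)
        fun x y hxy => Subtype.ext (Multiplicative.toAdd.injective hxy)
    obtain ⟨-, -, h4⟩ := hFF' (hR.trans (h3.trans h1))
    have h5 := h4 ⊥ (inv_bot' Γ) le_rfl bot_le (fun a _ m hm => by
      rw [Subgroup.mem_bot.1 hm, mul_one, mul_inv_cancel, one_mul, inv_one]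
      exact (⊥ : Subgroup (UG K)).one_mem)
    rw [Subgroup.relIndex_bot_left] at h5
    have h6 := (h1.trans h5).trans (hCcard.trans (card_ZS_le h))
    nlinarith
  -- `M` maps into a line
  have hline : ∀ y ∈ Z2 K, star z.r * y.b = z.r * star y.b → y ∈ E := by
    intro y hy hb
    refine hXE ⟨hy, Subgroup.mem_centralizer_iff.2 fun m hm => ?_⟩
    rw [(comm_Z2_iff hy m).2]
    have h1 := hcase m hm
    apply mul_right_cancel₀ hzr
    linear_combination y.b * h1 + m.r * hb
  have hcardline : Nat.card (line z.r) ≤ p ^ n := card_line_le h hzr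
  have h1 : (line z.r).index ≤ E.relIndex (Z2 K) := by
    refine hB _ fun y hy hyE => ?_
    have k1 := (comm_Z2_iff hy z).1 (hz.2.1 y hyE).symm
    show star y.b * z.r = y.b * star z.r
    linear_combination -k1
  have h2 := hindex (line z.r)
  have h3 : p ^ n ≤ (line z.r).index := by
    by_contra hlt
    push Not at hlt
    have : (line z.r).index * Nat.card (line z.r) < (p ^ n) ^ 2 := by
      calc (line z.r).index * Nat.card (line z.r) ≤ (line z.r).index * p ^ n :=
            Nat.mul_le_mul_left _ hcardline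
        _ < p ^ n * p ^ n := Nat.mul_lt_mul_of_pos_right hlt hqpos
        _ = (p ^ n) ^ 2 := by ring
    omega
  have h4 : Nat.card ((rh (K := K)).comp M.subtype).range ≤ p ^ n := by
    refine le_trans (Subgroup.card_le_of_le ?_) hcardline
    rintro _ ⟨m, rfl⟩
    exact hcase m m.2
  obtain ⟨hN, -, h5⟩ := hFF' (hR.trans (h4.trans (h3.trans h1)))
  -- commutators in the centre are trivial
  let D : Subgroup (UG K) := M ⊓ ⁅E, E⁆
  have hDr : ∀ x ∈ ⁅E, E⁆, x.r = 0 := by
    have h6 : ⁅E, E⁆ ≤ Q2 K := by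
      rw [Subgroup.commutator_le]
      intro x _ y _
      show (x * y * x⁻¹ * y⁻¹).r = 0
      simp
    exact fun x hx => h6 hx
  have h6 := h5 D (inv_inf hMinv (inv_commutator Γ)) bot_le inf_le_left (fun a ha m hm => by
    rw [(comm_Z2_iff ha m).2 (by rw [hDr m hm.2, star_zero, zero_mul, zero_mul]), mul_assoc, mul_assoc,
      mul_inv_cancel_left, mul_inv_cancel]
    exact (⊥ : Subgroup (UG K)).one_mem)
  have h7 : Nat.card (D ⊓ (comG (Z2 K) M ⊔ ⊥) : Subgroup (UG K)) * D.relIndex (comG (Z2 K) M ⊔ ⊥) =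
      Nat.card (comG (Z2 K) M ⊔ ⊥ : Subgroup (UG K)) := by
    rw [← Subgroup.inf_relIndex_right D (comG (Z2 K) M ⊔ ⊥), ← Subgroup.relIndex_bot_left,
      ← Subgroup.relIndex_bot_left, Subgroup.relIndex_mul_relIndex _ _ _ bot_le inf_le_right]
  have h8 := card_ZS_le h
  have h9 : Nat.card (comG (Z2 K) M ⊔ ⊥ : Subgroup (UG K)) = p ^ n :=
    le_antisymm (hCcard.trans h8) (by
      rw [← h7]
      calc p ^ n ≤ D.relIndex (comG (Z2 K) M ⊔ ⊥) := h3.trans (h1.trans h6)
        _ ≤ _ := Nat.le_mul_of_pos_left _ Nat.card_pos)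
  have h10 : (comG (Z2 K) M ⊔ ⊥ : Subgroup (UG K)) = ZS K :=
    Subgroup.eq_of_le_of_card_ge hCZ (by rw [h9]; exact h8)
  have h11 : D ⊓ ZS K = ⊥ := by
    rw [← h10]
    apply Subgroup.eq_bot_of_card_le
    rw [h9] at h7
    have h12 : p ^ n ≤ D.relIndex (comG (Z2 K) M ⊔ ⊥) := h3.trans (h1.trans h6)
    by_contra hlt
    push Not at hlt
    have h13 : 2 * p ^ n ≤ Nat.card (D ⊓ (comG (Z2 K) M ⊔ ⊥) : Subgroup (UG K)) *
        D.relIndex (comG (Z2 K) M ⊔ ⊥) := Nat.mul_le_mul hlt h12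
    omega
  have key : ∀ e ∈ E, ∀ f ∈ E, e * f * e⁻¹ * f⁻¹ ∈ ZS K → e * f = f * e := by
    intro e he f hf hef
    have h12 : e * f * e⁻¹ * f⁻¹ ∈ D ⊓ ZS K :=
      ⟨⟨hZM hef, Subgroup.commutator_mem_commutator he hf⟩, hef⟩
    rw [h11, Subgroup.mem_bot] at h12
    have h13 := mul_inv_eq_one.1 h12
    rw [mul_inv_eq_iff_eq_mul] at h13
    exact h13
  -- the coordinates of the elements of `E`
  have hEr : ∀ e ∈ E, star e.r * z.r = e.r * star z.r := by
    intro e he
    let y : UG K := { r := 0, u1 := 0, u2 := 0, a := 0, b := z.r, c := 0, ha := by simp, hc := by simp }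
    have hy : y ∈ Z2 K := ⟨rfl, rfl, rfl, rfl⟩
    have hyE : y ∈ E := hline y hy (mul_comm _ _)
    exact (comm_Z2_iff hy e).1 (key y hyE e he (com_Z2 hy e))
  have hEu : ∀ e ∈ E, z.r * e.u2 = e.r * z.u2 := by
    intro e he
    have h12 := congrArg UG.u1 (hz.2.1 e he)
    simp only [UG.mul_u1] at h12
    linear_combination h12
  -- elements of `Y` normalizing `E`
  have hnorm : ∀ y ∈ YY K, (∀ e ∈ E, star z.r * (e.r * y.c + y.u1 * star e.u2) =
      z.r * star (e.r * y.c + y.u1 * star e.u2)) → ∃ e ∈ E, e.r = 0 ∧ e.u1 = y.u1 ∧ e.u2 = 0 ∧ e.c = y.c := by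
    intro y hy hyc
    have h12 : y ∈ normalizerIn (⊤ : Subgroup (UG K)) E := by
      refine ⟨Subgroup.mem_top y, ?_⟩
      refine Subgroup.mem_normalizer_fintype (fun e he => ?_)
      obtain ⟨k1, k2⟩ := com_S_YY e hy
      have k3 : y * e * y⁻¹ = (e * y * e⁻¹ * y⁻¹)⁻¹ * e := by group
      rw [k3]
      refine E.mul_mem (E.inv_mem (hline _ k1 ?_)) he
      rw [k2]
      exact hyc e he
    rw [hN, Subgroup.mem_sup_of_normal_right] at h12
    obtain ⟨e, he, w, hw, rfl⟩ := h12
    obtain ⟨w1, w2, w3, w4⟩ := hw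
    obtain ⟨y1, y2⟩ := hy
    have e1 : e.r = 0 := by
      have : e.r + w.r = 0 := y1
      rwa [w1, add_zero] at this
    have e2 : e.u2 = 0 := by
      have : e.u2 + w.u2 = 0 := y2
      rwa [w3, add_zero] at this
    refine ⟨e, he, e1, ?_, e2, ?_⟩
    · rw [UG.mul_u1, w2, w3, add_zero, mul_zero, add_zero]
    · rw [UG.mul_c, w4, e2, zero_mul, add_zero, sub_zero]
  by_cases h2K : (1 : K) + 1 = 0
  · -- characteristic two
    let y : UG K := { r := 0, u1 := 0, u2 := 0, a := 0, b := 0, c := 1, ha := by simp, hc := by simpa using h2K }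
    obtain ⟨e, he, e1, e2, e3, e4⟩ := hnorm y ⟨rfl, rfl⟩ (fun e he => by
      have k1 := hEr e he
      show star z.r * (e.r * 1 + 0 * star e.u2) = z.r * star (e.r * 1 + 0 * star e.u2)
      rw [mul_one, zero_mul, add_zero]
      linear_combination -k1)
    have h12 := congrArg UG.b (hz.2.1 e he)
    have e5 : e.u1 = 0 := e2
    have e6 : e.c = 1 := e4
    simp only [UG.mul_b, e1, e3, e5, e6, star_zero] at h12
    apply hzr
    linear_combination h12
  · -- odd characteristic
    have h2 : (2 : K) ≠ 0 := by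
      intro h0
      apply h2K
      rw [one_add_one_eq_two, h0]
    have hs2 : star (2 : K) = 2 := by
      rw [← one_add_one_eq_two, star_add, star_one]
    have hex : ∀ t : K, ∃ e ∈ E, e.r = 0 ∧ e.u1 = t ∧ e.u2 = 0 := by
      intro t
      set c : K := -(t * star z.u2 * star z.r - star t * z.u2 * z.r) / (2 * z.r * star z.r) with hc
      have hc2 : 2 * z.r * star z.r * c = -(t * star z.u2 * star z.r - star t * z.u2 * z.r) := by
        rw [hc]
        field_simp
      have hsc : star c = -c := by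
        rw [hc]
        simp only [star_neg, star_div₀, star_sub, star_mul', star_star, hs2]
        field_simp
        ring
      let y : UG K := { r := 0, u1 := t, u2 := 0, a := -(t * star t) / 2, b := 0, c := c
                        ha := by
                          simp only [star_neg, star_div₀, star_mul', star_star, hs2]
                          field_simp
                          ring
                        hc := by rw [hsc, zero_mul, add_zero, add_neg_cancel] }
      obtain ⟨e, he, e1, e2, e3, e4⟩ := hnorm y ⟨rfl, rfl⟩ (fun e he => by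
        have hr := hEr e he
        have hu := hEu e he
        have hsu : star z.r * star e.u2 = star e.r * star z.u2 := by
          rw [← star_mul', ← star_mul', hu]
        show star z.r * (e.r * c + t * star e.u2) = z.r * star (e.r * c + t * star e.u2)
        rw [star_add, star_mul', star_mul', star_star, hsc]
        apply mul_left_cancel₀ hzr
        linear_combination (z.r * t) * hsu + (z.r * c) * hr - (z.r * star t) * hu + e.r * hc2 +
          (t * star z.u2) * hr)
      exact ⟨e, he, e1, e2, e3⟩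
    obtain ⟨θ, hθ⟩ := exists_star_ne h
    obtain ⟨e, he, e1, e2, e3⟩ := hex 1
    obtain ⟨f, hf, f1, f2, f3⟩ := hex θ
    have h12 := congrArg UG.a (key e he f hf (com_YY ⟨e1, e3⟩ ⟨f1, f3⟩))
    simp only [UG.mul_a, UG.d, e1, e2, e3, f1, f2, f3, star_zero, star_one] at h12
    apply hθ
    linear_combination -h12

end main

end Cfsg.Agent.H839.PU
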