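import Cfsg.Agent.H839.PU.StepOne
import Cfsg.Agent.H199.PU.E2
import Cfsg.Agent.H767.PU.Facts
import Cfsg.Agent.H732.PU.Chain

/-!
# S5258, (E4b): `V ≤ E ≰ Q₂`, `Z` not invariant implies `Y ≤ E`

Plan: `outputs/live/tools/plans/S5258.md`, Part 3, E4b.
-/

set_option autoImplicit false

namespace Cfsg.Agent.H839.PU

open Cfsg Cfsg.FusionSystem Cfsg.Agent.H756.PU

universe u

/-- the commutator of two invariant subgroups is invariant -/
theorem inv_comm {Ω : Type*} [Group Ω] {E : Subgroup Ω} {Γ : Subgroup (MulAut E)} {A B : Subgroup Ω}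
    (hA : Inv Γ A) (hB : Inv Γ B) : Inv Γ ⁅A, B⁆ := by
  have h1 : ⁅A, B⁆ = (⁅A.subgroupOf E, B.subgroupOf E⁆ : Subgroup E).map E.subtype := by
    rw [Subgroup.map_commutator, Subgroup.map_subgroupOf_eq_of_le hA.1, Subgroup.map_subgroupOf_eq_of_le hB.1]
  have h2 : ∀ {M : Subgroup Ω}, Inv Γ M → ∀ γ ∈ Γ, (M.subgroupOf E).map γ.toMonoidHom ≤ M.subgroupOf E := by
    rintro M hM γ hγ _ ⟨e, he, rfl⟩
    exact hM.2 γ hγ e he
  rw [h1]
  refine ⟨by rintro _ ⟨x, -, rfl⟩; exact x.2, fun γ hγ e he => ?_⟩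
  obtain ⟨x, hx, hxe⟩ := he
  have hxe' : x = e := Subtype.ext hxe
  subst hxe'
  refine ⟨γ x, ?_, rfl⟩
  have h3 : (⁅A.subgroupOf E, B.subgroupOf E⁆ : Subgroup E).map γ.toMonoidHom ≤
      ⁅A.subgroupOf E, B.subgroupOf E⁆ := by
    rw [Subgroup.map_commutator]
    exact Subgroup.commutator_mono (h2 hA γ hγ) (h2 hB γ hγ)
  exact h3 ⟨x, hx, rfl⟩

theorem comm_mem_of_commute {G : Type*} [Group G] {x y : G} (h : x * y = y * x) (N : Subgroup G) :
    x * y * x⁻¹ * y⁻¹ ∈ N := by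
  rw [h, mul_inv_cancel_right, mul_inv_cancel]
  exact N.one_mem

/-- **(E4b)** -/
theorem stE4b : StE4b.{u} := by
  intro K _ _ p n h E Γ hE hVE hEQ hZ
  by_contra hY
  have hfin := finite_UG h
  have hZ2E : Z2 K ≤ E := H767.PU.Z2_le_VV.trans hVE
  have hZE : ZS K ≤ E := ZS_le_Z2.trans hZ2E
  -- an element of `E` outside `Q₂`
  obtain ⟨z, hzE, hz⟩ : ∃ z ∈ E, z ∉ Q2 K := SetLike.not_le_iff_exists.1 hEQ
  -- an element of `Γ` outside the stabilizer of `Z`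
  obtain ⟨η, hηΓ, hη⟩ : ∃ η ∈ Γ, η ∉ H199.PU.stZ E := by
    by_contra hcon
    push Not at hcon
    exact hZ ⟨hZE, fun γ hγ e he => (hcon γ hγ e).1 he⟩
  have hcomm : ∀ k ∈ H199.PU.stZ E, ∀ l ∉ H199.PU.stZ E, ∀ a b : E, (a : UG K) ∈ Z2 K → (b : UG K) ∈ Z2 K →
      l a * k b = k b * l a := by
    intro k hk l hl a b ha hb
    have h1 : k⁻¹ * l ∉ H199.PU.stZ E := fun hc => hl (by
      have := (H199.PU.stZ E).mul_mem hk hc
      rwa [mul_inv_cancel_left] at this)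
    have h2 := H199.PU.map_Z2_le h hZ2E h1 a ha
    have h3 : (k⁻¹ * l) a * b = b * (k⁻¹ * l) a :=
      Subtype.ext (H767.PU.com_Q2_VV_mem h2 (H767.PU.Z2_le_VV hb))
    have h4 := congrArg k h3
    have h5 : k ((k⁻¹ * l) a) = l a := MulAut.apply_inv_self _ _ _
    rwa [map_mul, map_mul, h5] at h4
  -- all images of `Z₂` lie in `Q₂`
  have hall : ∀ g : MulAut E, ∀ y : E, (y : UG K) ∈ Z2 K → ((g y : E) : UG K) ∈ Q2 K := by
    intro g y hy
    by_contra hcon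
    have hg : g ∈ H199.PU.stZ E := by
      by_contra hg
      exact hcon (H199.PU.map_Z2_le h hZ2E hg y hy)
    have hηg : η * g ∉ H199.PU.stZ E := fun hc => hη (by
      have := (H199.PU.stZ E).mul_mem hc ((H199.PU.stZ E).inv_mem hg)
      rwa [mul_inv_cancel_right] at this)
    have hinY : ∀ l ∉ H199.PU.stZ E, ∀ a : E, (a : UG K) ∈ Z2 K → ((l a : E) : UG K) ∈ YY K := by
      intro l hl a ha
      refine H767.PU.Q2_comm_mem_YY hcon (H199.PU.map_Z2_le h hZ2E hl a ha) ?_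
      exact (congrArg Subtype.val (hcomm g hg l hl a y ha hy)).symm
    apply hη
    have h0 : η⁻¹ ∈ H199.PU.stZ E := by
      refine H199.PU.mem_stZ fun e he => ?_
      rw [inv_inv]
      obtain ⟨w, hw, hwe⟩ := H767.PU.exists_comm_Z2 h hcon he
      have h1 : e = g y * (⟨w, hZ2E hw⟩ : E) * (g y)⁻¹ * (⟨w, hZ2E hw⟩ : E)⁻¹ := Subtype.ext hwe.symm
      rw [h1, map_mul, map_mul, map_mul, map_inv, map_inv]
      exact H767.PU.com_YY_YY _ (hinY (η * g) hηg y hy) _ (hinY η hη ⟨w, hZ2E hw⟩ hw)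
    have h1 := (H199.PU.stZ E).inv_mem h0
    rwa [inv_inv] at h1
  -- the hull of `Z₂`
  have hMinv : Inv Γ (hull Γ (Z2 K)) := inv_hull Γ (Z2 K)
  have hZM : Z2 K ≤ hull Γ (Z2 K) := le_hull hZ2E
  have hMQ : hull Γ (Z2 K) ≤ Q2 K := by
    refine (Subgroup.closure_le _).2 ?_
    rintro _ ⟨γ, -, e, he, rfl⟩
    exact hall γ e he
  have hMab : ∀ x ∈ hull Γ (Z2 K), ∀ y ∈ hull Γ (Z2 K), x * y = y * x := by
    have key : ∀ γ : MulAut E, ∀ e : E, (e : UG K) ∈ Z2 K → ∀ y ∈ hull Γ (Z2 K),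
        ((γ e : E) : UG K) * y = y * ((γ e : E) : UG K) := by
      intro γ e he y hy
      have h1 : hull Γ (Z2 K) ≤ Subgroup.centralizer {((γ e : E) : UG K)} := by
        refine (Subgroup.closure_le _).2 ?_
        rintro _ ⟨δ, -, f, hf, rfl⟩
        refine Subgroup.mem_centralizer_singleton_iff.2 ?_
        have h2 := hall (γ⁻¹ * δ) f hf
        have h3 : (γ⁻¹ * δ) f * e = e * (γ⁻¹ * δ) f :=
          Subtype.ext (H767.PU.com_Q2_VV_mem h2 (H767.PU.Z2_le_VV he))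
        have h4 := congrArg γ h3
        have h5 : γ ((γ⁻¹ * δ) f) = δ f := MulAut.apply_inv_self _ _ _
        rw [map_mul, map_mul, h5] at h4
        exact congrArg Subtype.val h4
      exact (Subgroup.mem_centralizer_singleton_iff.1 (h1 hy)).symm
    intro x hx y hy
    have h1 : hull Γ (Z2 K) ≤ Subgroup.centralizer {y} := by
      refine (Subgroup.closure_le _).2 ?_
      rintro _ ⟨γ, -, e, he, rfl⟩
      exact Subgroup.mem_centralizer_singleton_iff.2 (key γ e he y hy)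
    exact Subgroup.mem_centralizer_singleton_iff.1 (h1 hx)
  generalize hull Γ (Z2 K) = M at hMinv hZM hMQ hMab
  have hcomY : ∀ X : Subgroup (UG K), X ≤ YY K → Com X E M := fun X hX x hx e _ =>
    hZM (H767.PU.com_symm H767.PU.com_top_YY x (hX hx) e (Subgroup.mem_top e))
  -- an element of `M` outside `V`
  obtain ⟨x, hxM, hxV⟩ : ∃ x ∈ M, x ∉ VV K := by
    by_contra hcon
    push Not at hcon
    apply hY
    refine H732.PU.stChain hE M M M hMinv hMinv hMinv le_rfl le_rfl (YY K) le_top (hcomY _ le_rfl)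
      (fun x hx m hm => ?_) (fun x hx m hm => ?_) (fun x hx m hm => ?_)
    · exact comm_mem_of_commute (H767.PU.com_Q2_VV_mem (H767.PU.YY_le_Q2 hx) (hcon m hm)) _
    · exact comm_mem_of_commute (H767.PU.com_Q2_VV_mem (H767.PU.YY_le_Q2 hx) (hcon m hm)) _
    · exact H767.PU.com_Q2_VV_mem (H767.PU.YY_le_Q2 hx) (hcon m hm)
  have hxQ : x ∈ Q2 K := hMQ hxM
  -- `x ∈ Y`
  have hx2 : x.u2 = 0 := by
    have hw : x * z * x⁻¹ * z⁻¹ ∈ M := by
      have h1 : MulAut.conj (⟨z, hzE⟩ : E) ∈ Γ :=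
        hE.indu (Subgroup.subset_closure ⟨z, Subgroup.mem_top z, fun x => rfl⟩)
      have h2 := hMinv.2 _ h1 ⟨x⁻¹, hMinv.1 (M.inv_mem hxM)⟩ (M.inv_mem hxM)
      have h3 := M.mul_mem hxM h2
      have h4 : x * z * x⁻¹ * z⁻¹ = x * (((MulAut.conj (⟨z, hzE⟩ : E)) ⟨x⁻¹, hMinv.1 (M.inv_mem hxM)⟩ : E) : UG K) := by
        show x * z * x⁻¹ * z⁻¹ = x * (z * x⁻¹ * z⁻¹)
        group
      rw [h4]
      exact h3
    obtain ⟨t, -, h1, h2⟩ := (H767.PU.Q2_comm_iff' hxQ (hMQ hw) hxV).1 (hMab x hxM _ hw)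
    rw [H767.PU.comm_u1, H767.PU.mem_Q2.1 hxQ, zero_mul, zero_sub] at h1
    rw [H767.PU.comm_u2] at h2
    by_contra h0
    have ht : t = 0 := (mul_eq_zero.1 h2.symm).resolve_right h0
    rw [ht, zero_mul, neg_eq_zero] at h1
    rcases mul_eq_zero.1 h1 with h3 | h3
    · exact hz h3
    · exact h0 h3
  -- the centralizer of `x` in `Q₂`
  obtain ⟨B, hB⟩ : ∃ B : Subgroup (UG K), ∀ y, y ∈ B ↔ y ∈ Q2 K ∧ x * y = y * x :=
    ⟨Q2 K ⊓ Subgroup.centralizer {x}, fun y => by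
      rw [Subgroup.mem_inf, Subgroup.mem_centralizer_singleton_iff]
      exact and_congr_right fun _ => eq_comm⟩
  have hBY : B ≤ YY K := by
    intro y hy
    obtain ⟨h1, h2⟩ := (hB y).1 hy
    obtain ⟨t, -, -, h3⟩ := (H767.PU.Q2_comm_iff' hxQ h1 hxV).1 h2
    rw [hx2, mul_zero] at h3
    exact ⟨h1, h3⟩
  have hBM : ∀ y ∈ B, ∀ m ∈ M, y * m = m * y := by
    intro y hy m hm
    obtain ⟨h1, h2⟩ := (hB y).1 hy
    exact H767.PU.Q2_cent_abelian hxQ h1 (hMQ hm) hxV h2 (hMab x hxM m hm)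
  have hBE : B ≤ E := by
    refine H732.PU.stChain hE M M M hMinv hMinv hMinv le_rfl le_rfl B le_top (hcomY _ hBY)
      (fun y hy m hm => ?_) (fun y hy m hm => ?_) hBM
    · exact comm_mem_of_commute (hBM y hy m hm) _
    · exact comm_mem_of_commute (hBM y hy m hm) _
  have hBinv : Inv Γ B := by
    refine ⟨hBE, fun γ hγ e he => ?_⟩
    have h1 : ∀ m ∈ M, ((γ e : E) : UG K) * m = m * ((γ e : E) : UG K) := by
      intro m hm
      have h2 := hMinv.2 γ⁻¹ (Γ.inv_mem hγ) ⟨m, hMinv.1 hm⟩ hm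
      have h3 : e * γ⁻¹ ⟨m, hMinv.1 hm⟩ = γ⁻¹ ⟨m, hMinv.1 hm⟩ * e := Subtype.ext (hBM e he _ h2)
      have h4 := congrArg γ h3
      rw [map_mul, map_mul, MulAut.apply_inv_self] at h4
      exact congrArg Subtype.val h4
    exact (hB _).2 ⟨(H767.PU.cent_Z2 h).1 fun y hy => h1 y (hZM hy), (h1 x hxM).symm⟩
  have hZ2B : Z2 K ≤ B := fun y hy => (hB y).2
    ⟨H767.PU.VV_le_Q2 (H767.PU.Z2_le_VV hy), H767.PU.com_Q2_VV_mem hxQ (H767.PU.Z2_le_VV hy)⟩
  -- `[B, E]`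
  have hEinv : Inv Γ E := ⟨le_rfl, fun γ _ e _ => (γ e).2⟩
  have hCinv : Inv Γ ⁅B, E⁆ := inv_comm hBinv hEinv
  have hCZ2 : ⁅B, E⁆ ≤ Z2 K := by
    rw [Subgroup.commutator_le]
    intro b hb e _
    exact H767.PU.com_symm H767.PU.com_top_YY b (hBY hb) e (Subgroup.mem_top e)
  have hZC : ZS K ≤ ⁅B, E⁆ := by
    intro w hw
    obtain ⟨y, hy, hyw⟩ := H767.PU.exists_comm_Z2 h hz hw
    rw [← hyw, Subgroup.commutator_comm]
    exact Subgroup.commutator_mem_commutator hzE (hZ2B hy)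
  apply hY
  have hYC : ∀ y ∈ YY K, ∀ m ∈ ⁅B, E⁆, y * m = m * y := fun y hy m hm =>
    H767.PU.com_Q2_VV_mem (H767.PU.YY_le_Q2 hy) (H767.PU.Z2_le_VV (hCZ2 hm))
  refine H732.PU.stChain hE ⁅B, E⁆ ⁅B, E⁆ B hCinv hCinv hBinv le_rfl (hCZ2.trans hZ2B) (YY K) le_top
    (fun y hy e _ => ?_) (fun y hy b hb => ?_) (fun y hy m hm => ?_) hYC
  · exact hZ2B (H767.PU.com_symm H767.PU.com_top_YY y hy e (Subgroup.mem_top e))
  · exact hZC (H767.PU.com_YY_YY y hy b (hBY hb))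
  · exact comm_mem_of_commute (hYC y hy m hm) _

end Cfsg.Agent.H839.PU
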